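import Groth.Agent.ModGroth.StalkBasis
import Groth.Agent.QCohLib.StalkLoc
import Groth.Agent.PullFF.Desc
import Groth.Agent.CohVanish.Sections
import Groth.Prelude.Def_TorSh
import Mathlib.AlgebraicGeometry.FunctionField

/-!
# Torsion-free rank one quasi-coherent modules embed in the rational functions
-/

set_option autoImplicit false
set_option linter.style.haveILetI false
set_option backward.isDefEq.respectTransparency false
universe u
open CategoryTheory CategoryTheory.Limits Opposite TopologicalSpace AlgebraicGeometry

namespace Groth.Agent.RankOneEmb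

open ModGroth ModGroth.Stalk ModGroth.LocBasis

variable {X : Scheme.{u}} [IsIntegral X]

/-- A section of a torsion-free quasi-coherent module vanishing at the generic point is zero. -/
theorem eq_zero_of_germ_generic (F : X.Modules) [F.IsQuasicoherent] (hF : TorSh.IsTorsionFree F) {W : X.Opens}
    (hη : genericPoint X ∈ W) (t : Γ(F, W)) (h : F.presheaf.germ W (genericPoint X) hη t = 0) : t = 0 := by
  refine QCohLib.section_ext t 0 fun x hx => ?_
  obtain ⟨U, hU, hxU, hUW⟩ := exists_isAffineOpen_mem_and_subset hx
  have hηU : genericPoint X ∈ U := (genericPoint_specializes x).mem_open U.2 hxU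
  let n := F.presheaf.map (homOfLE (show U ≤ W from hUW)).op t
  have hn : F.presheaf.germ U (genericPoint X) hηU n = 0 := by
    rw [TopCat.Presheaf.germ_res_apply]; exact h
  obtain ⟨a, hηa, han⟩ := (QCohLib.germ_eq_zero_iff hU _ hηU n).1 hn
  rw [map_zero, ← TopCat.Presheaf.germ_res_apply F.presheaf (homOfLE (show U ≤ W from hUW)) x hxU t]
  have hne : X.presheaf.germ U x hxU a ≠ 0 := fun h0 => by
    have hu := (X.mem_basicOpen a (genericPoint X) hηU).1 hηa
    rw [← TopCat.Presheaf.germ_stalkSpecializes X.presheaf hxU (genericPoint_specializes x)] at hu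
    rw [CategoryTheory.comp_apply, h0, map_zero] at hu
    exact not_isUnit_zero hu
  haveI := hF x
  refine (IsRegular.of_ne_zero hne).isSMulRegular (M := F.presheaf.stalk x) ?_
  change X.presheaf.germ U x hxU a • F.presheaf.germ U x hxU n = X.presheaf.germ U x hxU a • (0 : F.presheaf.stalk x)
  rw [← QCohLib.germ_smul, han, map_zero, smul_zero]

omit [IsIntegral X] in
/-- A module on a one-point scheme with a one-dimensional stalk is the structure sheaf. -/
theorem nonempty_iso_unit {S : Scheme.{u}} [Subsingleton S] (G : S.Modules) (p : S) (v : G.presheaf.stalk p)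
    (hv : Function.Bijective fun r : S.presheaf.stalk p => r • v) : Nonempty (G ≅ Coh.structureModule S) := by
  obtain ⟨U, hpU, s, rfl⟩ := TopCat.Presheaf.exists_germ_eq _ v
  obtain rfl : U = ⊤ := top_unique fun q _ => by rwa [Subsingleton.elim q p]
  let φ : Coh.structureModule S ⟶ G := CohVanish.homOfSection G s
  haveI : IsIso φ := by
    refine isIso_of_small φ fun x => ⟨⊤, trivial, fun W _ => ?_⟩
    suffices h : Function.Bijective (fun c : Γ(S, W) => c • G.presheaf.map (homOfLE (le_top (a := W))).op s) from
      (funext fun c => CohVanish.homOfSection_app G s W c : ⇑(φ.app W) = _) ▸ h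
    have hgerm : ∀ (hx : p ∈ W) (c : Γ(S, W)), G.presheaf.germ W p hx (c • G.presheaf.map (homOfLE (le_top (a := W))).op s) =
        S.presheaf.germ W p hx c • G.presheaf.germ ⊤ p hpU s := fun hx c => by
      rw [QCohLib.germ_smul, TopCat.Presheaf.germ_res_apply]
    constructor
    · intro c c' h
      refine TopCat.Presheaf.section_ext S.sheaf W c c' fun y hy => ?_
      obtain rfl := Subsingleton.elim p y
      exact hv.1 ((hgerm hy c).symm.trans ((congrArg (G.presheaf.germ W p hy) h).trans (hgerm hy c')))
    · intro z
      by_cases hp : p ∈ W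
      · obtain ⟨r, hr⟩ := hv.2 (G.presheaf.germ W p hp z)
        obtain ⟨W', hW', c, rfl⟩ := TopCat.Presheaf.exists_germ_eq _ r
        have hle : W ≤ W' := fun q _ => by rwa [Subsingleton.elim q p]
        refine ⟨S.presheaf.map (homOfLE hle).op c, QCohLib.section_ext _ _ fun y hy => ?_⟩
        obtain rfl := Subsingleton.elim p y
        refine (hgerm hy _).trans ?_
        rw [TopCat.Presheaf.germ_res_apply]
        exact hr
      · exact ⟨0, QCohLib.section_ext _ _ fun y hy => (hp (by rwa [Subsingleton.elim p y])).elim⟩
  exact ⟨(asIso φ).symm⟩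

theorem exists_mono (X : Scheme.{u}) [IsIntegral X] (F : X.Modules) [F.IsQuasicoherent] (hF : TorSh.IsTorsionFree F)
    (h1 : Module.finrank (X.presheaf.stalk (genericPoint X)) (F.presheaf.stalk (genericPoint X)) = 1) :
    ∃ i : F ⟶ (Scheme.Modules.pushforward (X.fromSpecStalk (genericPoint X))).obj
        (Coh.structureModule (Spec (X.presheaf.stalk (genericPoint X)))), Mono i := by
  let η := genericPoint X
  letI : Field (X.presheaf.stalk η) := inferInstanceAs (Field X.functionField)
  let j := X.fromSpecStalk η
  let p : Spec (X.presheaf.stalk η) := IsLocalRing.closedPoint (X.presheaf.stalk η)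
  haveI : Subsingleton (Spec (X.presheaf.stalk η)) := inferInstanceAs (Subsingleton (PrimeSpectrum (X.presheaf.stalk η)))
  have hj : j p = η := Scheme.fromSpecStalk_closedPoint
  let P : ModuleCat (X.presheaf.stalk (j p)) := (DerSch.stalkFunctor X (j p)).obj F
  obtain ⟨v₀, hv₀⟩ : ∃ v₀ : P, Function.Bijective
      (Fintype.linearCombination (X.presheaf.stalk (j p)) (fun _ : Fin 1 => v₀)) := by
    suffices ∀ (y : X) (_ : y = η), ∃ v₀ : F.presheaf.stalk y, Function.Bijective
        (Fintype.linearCombination (X.presheaf.stalk y) (fun _ : Fin 1 => v₀)) from this _ hj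
    rintro _ rfl
    obtain ⟨b⟩ : Nonempty (Module.Basis (Fin 1) (X.presheaf.stalk η) (F.presheaf.stalk η)) :=
      ⟨Module.basisUnique (Fin 1) h1⟩
    refine ⟨b 0, ?_⟩
    have : (fun _ : Fin 1 => b 0) = ⇑b := funext fun i => by rw [Subsingleton.elim i 0]
    rw [this]
    convert b.equivFun.symm.bijective using 1
    funext c
    simp [Fintype.linearCombination_apply, Module.Basis.equivFun_symm_apply]
  have hT := bijective_oneT j p P (fun _ : Fin 1 => v₀) hv₀
  let G := (Scheme.Modules.pullback j).obj F
  let e := ((pullStalkIso j p).app F).symm.toLinearEquiv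
  obtain ⟨ι⟩ : Nonempty (G ≅ Coh.structureModule (Spec (X.presheaf.stalk η))) := by
    refine nonempty_iso_unit G p (e (oneT j p P v₀)) ?_
    have hb := e.bijective.comp (hT.comp (Equiv.funUnique (Fin 1) _).symm.bijective)
    refine Eq.mpr (congrArg Function.Bijective (funext fun r => ?_)) hb
    simp only [Function.comp_apply, Fintype.linearCombination_apply, Finset.univ_unique, Finset.sum_singleton]
    exact (map_smul e r _).symm
  let adj := Scheme.Modules.pullbackPushforwardAdjunction j
  haveI : Mono (adj.unit.app F) := by
    refine Preadditive.mono_of_cancel_zero _ fun {K} g hg => ?_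
    refine PullFF.hom_eq_zero_of_local g fun y => ⟨⊤, trivial, fun W _ t => ?_⟩
    by_cases hne : η ∈ W
    · refine eq_zero_of_germ_generic F hF hne _ ?_
      have hp : j p ∈ W := by rwa [hj]
      have h0 : pSec j F (g.app W t) = 0 := congrArg (fun ψ : K ⟶ _ => ψ.app W t) hg
      have h2 := inv_oneT j p F (U := W) hp (g.app W t)
      rw [h0, map_zero] at h2
      have h3 : oneT j p P (gm (toPres.obj F) hp (g.app W t)) = 0 :=
        e.injective (h2.trans (map_zero e).symm)
      obtain ⟨a, ha⟩ := hv₀.2 (gm (toPres.obj F) hp (g.app W t))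
      letI := (j.stalkMap p).hom.toAlgebra
      have h4 : (Fintype.linearCombination ((Spec (X.presheaf.stalk η)).presheaf.stalk p)
          (fun _ : Fin 1 => oneT j p P v₀)) (fun i => (j.stalkMap p).hom (a i)) = 0 := by
        refine Eq.trans ?_ h3
        rw [← ha, Fintype.linearCombination_apply, Fintype.linearCombination_apply]
        simp only [Finset.univ_unique, Finset.sum_singleton]
        exact ((map_smul ((ModuleCat.extendRestrictScalarsAdj.{u, u, u} (j.stalkMap p).hom).unit.app P).hom _ _).trans rfl).symm
      have h5 : ∀ i, (j.stalkMap p).hom (a i) = 0 := congrFun (hT.1 (h4.trans (map_zero _).symm))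
      have hinj : ∀ (y : X) (_ : y = η) (ψ : X.presheaf.stalk y →+* (Spec (X.presheaf.stalk η)).presheaf.stalk p),
          Function.Injective ψ := by
        rintro _ rfl ψ; exact ψ.injective
      have h6 : a = 0 := funext fun i =>
        hinj (j p) hj (j.stalkMap p).hom ((h5 i).trans (map_zero _).symm)
      rw [h6, map_zero] at ha
      have key : ∀ (y : X) (hy : y ∈ W) (_ : y = η), F.presheaf.germ W y hy (g.app W t) = 0 →
          F.presheaf.germ W η hne (g.app W t) = 0 := by
        rintro _ _ rfl h; exact h
      exact key _ hp hj ha.symm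
    · refine QCohLib.section_ext _ _ fun x hx => (hne ?_).elim
      exact (genericPoint_specializes x).mem_open W.2 hx
  exact ⟨adj.unit.app F ≫ (Scheme.Modules.pushforward j).map ι.hom, mono_comp _ _⟩

end Groth.Agent.RankOneEmb
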